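import Cfsg.Agent.SuzukiTwo.Layer

/-!
The centre of a Suzuki 2-group has exponent 2.
-/

set_option autoImplicit false

namespace CfsgLib.SuzukiTwo

variable {P : Type*} [Group P]

theorem psi_identity {G : Type*} [CommGroup G] (p q b x : G) :
    p * q⁻¹ * (b * x⁻¹ * (b * x⁻¹)) = p * (b * b) * (q * (x * x))⁻¹ := by
  simp only [mul_inv]; ac_rfl

theorem sq_div_eq_one {G : Type*} [CommGroup G] {c d : G} (h : d ^ 4 = c * c) :
    c * (d * d)⁻¹ * (c * (d * d)⁻¹) = 1 := by
  rw [mul_mul_mul_comm, ← h, ← mul_inv_rev, show d * d * (d * d) = d ^ 4 by simp only [pow_succ, pow_zero, one_mul, mul_assoc], mul_inv_cancel]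

theorem eq_of_mul_eq_one_of_sq {G : Type*} [Group G] {x y : G} (h : x * y = 1) (hy : y * y = 1) :
    x = y :=
  (eq_inv_of_mul_eq_one_left h).trans (inv_eq_of_mul_eq_one_right hy)

namespace Ctx

variable {K : Subgroup (MulAut P)} (h : Ctx P K)
include h

theorem card_K : ∃ n : ℕ, 2 ≤ n ∧ Nat.card K = 2 ^ n - 1 := by
  obtain ⟨F, iF, iT, iC, ω, -, hωinj, hωΩ, ι, -⟩ := h.exists_coords
  obtain ⟨n, -, hn⟩ := FiniteField.card F 2
  obtain ⟨x, y, hxy, hx1, hx, hy1, hy⟩ := h.two_involutions
  refine ⟨n, ?_, ?_⟩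
  · by_contra hlt
    have h2 : Fintype.card F = 2 := by
      rw [hn, show (n : ℕ) = 1 by have := n.pos; omega, pow_one]
    obtain ⟨a, rfl⟩ := (hωΩ x).mp hx
    obtain ⟨b, rfl⟩ := (hωΩ y).mp hy
    obtain ⟨c, hc⟩ := (hωΩ 1).mp (one_mul 1)
    have hab : a ≠ b := fun e => hxy (congrArg ω e)
    have hac : a ≠ c := fun e => hx1 (by rw [e, hc])
    have hbc : b ≠ c := fun e => hy1 (by rw [e, hc])
    classical
    have h3 : ({a, b, c} : Finset F).card = 3 := by
      simp [hab, hac, hbc]
    have := Finset.card_le_univ ({a, b, c} : Finset F)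
    omega
  · rw [Nat.card_congr ι.toEquiv, Nat.card_units, Nat.card_eq_fintype_card, hn]

/-- A self-centralizing abelian invariant normal subgroup has exponent at most 4. -/
theorem selfCentralizing_false {A : Subgroup P} (hA : Abl K A) (hne : A ≠ ⊤)
    (hself : ∀ y, (∀ a ∈ A, y * a = a * y) → y ∈ A) {f : ℕ} (h3 : 3 ≤ f)
    (hf : ∀ a ∈ A, a ^ 2 ^ f = 1) (hf' : ∃ a ∈ A, a ^ 2 ^ (f - 1) ≠ 1) : False := by
  classical
  haveI := h.fin
  haveI := hA.normal
  haveI : IsMulCommutative A :=
    IsMulCommutative.of_comm fun a b => Subtype.ext (hA.comm _ a.2 _ b.2)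
  letI : CommGroup A := { (inferInstance : Group A) with
    mul_comm := fun a b => Subtype.ext (hA.comm _ a.2 _ b.2) }
  obtain ⟨y₁, hy₁, hy₁A⟩ := exists_mem_layer h.pgroup (A := A) (C := ⊤) inferInstance
    (fun e => hne (eq_top_iff.mpr e))
  set U := layer A ⊤ with hU
  have hsqA : ∀ y ∈ U, y * y ∈ A := fun y hy => (mem_layer.mp hy).2.1
  have hcA : ∀ x ∈ U, ∀ g : P, g * x * g⁻¹ * x⁻¹ ∈ A := fun x hx => (mem_layer.mp hx).2.2
  have hUinv : Inv K U := layer_inv hA.inv (fun k _ x _ => Subgroup.mem_top _)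
  have hAU : A ≤ U := le_layer le_top
  let δ : P → A →* A := fun y => (MulAut.conjNormal y : MulAut A).toMonoidHom / MonoidHom.id A
  have hδ : ∀ (y : P) (a : A), ((δ y a : A) : P) = y * (a : P) * y⁻¹ * (a : P)⁻¹ := fun y a => by
    simp [δ, div_eq_mul_inv]
  have δmul : ∀ (y z : P) (a : A), δ (y * z) a = δ y (δ z a) * δ z a * δ y a := fun y z a => by
    apply Subtype.ext
    simp only [Subgroup.coe_mul, hδ]
    group
  have δA : ∀ y ∈ A, ∀ a : A, δ y a = 1 := fun y hy a => Subtype.ext (by
    rw [hδ, hA.comm y hy _ a.2, mul_inv_cancel_right, mul_inv_cancel]; rfl)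
  have δinv : ∀ (y : P) (a : A), a * a = 1 → δ y a = 1 := fun y a ha => Subtype.ext (by
    rw [hδ, h.central (congrArg Subtype.val ha) y, mul_inv_cancel_right, mul_inv_cancel]; rfl)
  have hf1 : ∀ a : A, a ^ 2 ^ f = 1 := fun a => Subtype.ext (by
    rw [SubmonoidClass.coe_pow, hf _ a.2]; rfl)
  have hroot : ∀ j ≤ f, ∀ a : A, a ^ 2 ^ j = 1 → ∃ b : A, b ^ 2 ^ (f - j) = a := by
    intro j hj a ha
    obtain ⟨b, hb, hba⟩ := h.root hA hf hf' j hj a a.2 (by
      rw [← SubmonoidClass.coe_pow, ha]; rfl)
    exact ⟨⟨b, hb⟩, Subtype.ext hba⟩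
  have hsq1 : ∀ a : A, a ^ 2 ^ (f - 1) * a ^ 2 ^ (f - 1) = 1 := fun a => by
    rw [← pow_add, ← two_mul, ← pow_succ', show f - 1 + 1 = f by omega, hf1]
  have hpre : ∀ w : A, w * w = 1 → ∃ a : A, a ^ 2 ^ (f - 1) = w := fun w hw =>
    hroot 1 (by omega) w (by rw [pow_one, pow_two, hw])
  obtain ⟨a₀, ha₀, ha₀1⟩ := hf'
  have hs₀ : (⟨a₀, ha₀⟩ : A) ^ 2 ^ (f - 1) ≠ 1 := fun e => ha₀1 (congrArg Subtype.val e)
  let kA : K → A → A := fun k a => ⟨(k : MulAut P) a, hA.inv k k.2 a a.2⟩
  have kA_pow : ∀ (k : K) (a : A) (n : ℕ), kA k (a ^ n) = kA k a ^ n := fun k a n =>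
    Subtype.ext (by simp [kA])
  have δk : ∀ (k : K) (y : P) (a : A), δ ((k : MulAut P) y) (kA k a) = kA k (δ y a) :=
    fun k y a => Subtype.ext (by rw [hδ]; simp [kA, hδ])
  have hDiv : ∀ k, 1 ≤ k → k ≤ f → ∀ y ∈ U, ∀ a : A, ∃ b : A, b ^ 2 ^ k = δ y a := by
    intro k
    induction k with
    | zero => intro h0; omega
    | succ k ih =>
      intro _ hkf y hy a
      by_cases hk0 : k = 0
      · subst hk0
        obtain ⟨b, hb⟩ := hroot (f - 1) (by omega) (δ y a) (by
          rw [← map_pow]; exact δinv y _ (hsq1 a))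
        exact ⟨b, by rwa [show f - (f - 1) = 0 + 1 by omega] at hb⟩
      have hdiv := ih (by omega) (by omega)
      -- the top component of `δ`
      let D : P → A → A := fun y a => δ y a ^ 2 ^ (f - k - 1)
      suffices hD0 : ∀ y ∈ U, ∀ a, D y a = 1 by
        obtain ⟨b, hb⟩ := hroot (f - k - 1) (by omega) (δ y a) (hD0 y hy a)
        exact ⟨b, by rwa [show f - (f - k - 1) = k + 1 by omega] at hb⟩
      have Dtop : ∀ y ∈ U, ∀ a b : A, b ^ 2 ^ k = δ y a → D y a = b ^ 2 ^ (f - 1) := by
        intro y _ a b hb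
        show δ y a ^ _ = _
        rw [← hb, ← pow_mul, ← pow_add, show k + (f - k - 1) = f - 1 by omega]
      have Dsq : ∀ y ∈ U, ∀ a, D y a * D y a = 1 := fun y hy a => by
        obtain ⟨b, hb⟩ := hdiv y hy a
        rw [Dtop y hy a b hb, hsq1]
      have Dmul : ∀ y, ∀ a b : A, D y (a * b) = D y a * D y b := fun y a b => by
        simp only [D, map_mul, mul_pow]
      have D1 : ∀ y, D y 1 = 1 := fun y => by simp only [D, map_one, one_pow]
      have Dsqarg : ∀ y ∈ U, ∀ a : A, D y (a * a) = 1 := fun y hy a => by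
        rw [Dmul, Dsq y hy]
      have Dcongr : ∀ y ∈ U, ∀ a b : A, a ^ 2 ^ (f - 1) = b ^ 2 ^ (f - 1) → D y a = D y b := by
        intro y hy a b hab
        obtain ⟨c, hc⟩ := hroot (f - 1) (by omega) (a * b⁻¹) (by
          rw [mul_pow, inv_pow, hab, mul_inv_cancel])
        rw [show f - (f - 1) = 1 by omega, pow_one, pow_two] at hc
        calc D y a = D y (a * b⁻¹ * b) := by rw [inv_mul_cancel_right]
          _ = _ := by rw [Dmul, ← hc, Dsqarg y hy, one_mul]
      have Dadd : ∀ y ∈ U, ∀ z ∈ U, ∀ a, D (y * z) a = D y a * D z a := by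
        intro y hy z hz a
        obtain ⟨b, hb⟩ := hdiv z hz a
        obtain ⟨c, hc⟩ := hdiv y hy b
        have e : δ y (δ z a) ^ 2 ^ (f - k - 1) = 1 := by
          rw [← hb, map_pow, ← hc, ← pow_mul, ← pow_mul, ← pow_add, ← pow_add,
            show k + (k + (f - k - 1)) = f + (k - 1) by omega, pow_add, pow_mul, hf1, one_pow]
        simp only [D, δmul, mul_pow, e, one_mul, mul_comm]
      have DA : ∀ y ∈ A, ∀ a, D y a = 1 := fun y hy a => by
        simp only [D, δA y hy, one_pow]
      have Dk : ∀ (j : K) (y : P) (a : A), D ((j : MulAut P) y) (kA j a) = kA j (D y a) := by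
        intro j y a; simp only [D, δk, kA_pow]
      by_cases hk2 : 2 ≤ k
      · -- `y ↦ (y x y⁻¹) x` maps `A` onto its squares
        have hpsi : ∀ y ∈ U, ∀ m, ∀ b : A, b ^ 2 ^ m = 1 → ∃ x : A, δ y x * (x * x) = b * b := by
          intro y hy m
          induction m with
          | zero =>
            intro b hb
            rw [pow_zero, pow_one] at hb
            exact ⟨1, by simp [hb]⟩
          | succ m ihm =>
            intro b hb
            by_cases hmf : f < m + 1
            · refine ihm b ?_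
              obtain ⟨d, rfl⟩ := Nat.exists_eq_add_of_le (show f ≤ m by omega)
              rw [pow_add, pow_mul, hf1, one_pow]
            obtain ⟨c, hc⟩ := hroot (m + 1) (by omega) b hb
            obtain ⟨d, hd⟩ := hdiv y hy c
            obtain ⟨x, hx⟩ := ihm (d ^ 2 ^ (k - 2 + (f - m))) (by
              rw [← pow_mul, ← pow_add, show k - 2 + (f - m) + m = f + (k - 2) by omega, pow_add,
                pow_mul, hf1, one_pow])
            have e : δ y b = d ^ 2 ^ (k - 2 + (f - m)) * d ^ 2 ^ (k - 2 + (f - m)) := by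
              rw [← hc, map_pow, ← hd, ← pow_mul, ← pow_add, ← pow_add, ← two_mul, ← pow_succ',
                show k + (f - (m + 1)) = k - 2 + (f - m) + 1 by omega]
            refine ⟨b * x⁻¹, ?_⟩
            calc δ y (b * x⁻¹) * (b * x⁻¹ * (b * x⁻¹))
                = δ y b * (b * b) * (δ y x * (x * x))⁻¹ := by
                  rw [map_mul, map_inv]; exact psi_identity _ _ _ _
              _ = b * b := by rw [hx, ← e, mul_comm (δ y b), mul_inv_cancel_right]
        have hin : ∀ y ∈ U, ∀ b : A, y * y = (b : P) * b → y ∈ A := by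
          intro y hy b hb
          obtain ⟨x, hx⟩ := hpsi y hy f b⁻¹ (hf1 _)
          have h1 : (x : P) * y * ((x : P) * y) = 1 := by
            have hx' := congrArg Subtype.val hx
            simp only [Subgroup.coe_mul, InvMemClass.coe_inv, hδ] at hx'
            have e : (x : P) * y * ((x : P) * y) =
                (x : P) * (y * x * y⁻¹ * (x : P)⁻¹) * x * (y * y) := by group
            rw [e, hA.comm _ x.2 _ (by rw [← hδ]; exact (δ y x).2), mul_assoc (y * (x : P) * y⁻¹ * _),
              hx', hb]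
            group
          have h2 := A.mul_mem (A.inv_mem x.2) (hA.omega _ h1)
          rwa [inv_mul_cancel_left] at h2
        let q : U → A := fun y => ⟨(y : P) * y, hsqA _ y.2⟩
        let s : P → P := fun y => (y * y) ^ 2 ^ (f - 1)
        have hsmul : ∀ y z : U, ∃ e : A, q (y * z) = e * e * q y * q z := by
          intro y z
          let c : A := ⟨(z : P) * y * (z : P)⁻¹ * (y : P)⁻¹, hcA _ y.2 _⟩
          obtain ⟨d1, hd1⟩ := hdiv y y.2 c
          obtain ⟨d2, hd2⟩ := hdiv z z.2 (q y)
          have e1 : q (y * z) = δ y c * c * q y * q z := Subtype.ext (by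
            simp only [q, c, Subgroup.coe_mul, hδ]; group)
          have e2 : δ z (q y) = c * (δ y c * c) := Subtype.ext (by
            simp only [q, c, Subgroup.coe_mul, hδ]; group)
          -- so `c * c` is a fourth power, and `c` a square
          let d : A := (d2 * d1⁻¹) ^ 2 ^ (k - 2)
          have e3 : d ^ 4 = c * c := by
            rw [show d ^ 4 = (d2 * d1⁻¹) ^ 2 ^ k by
              simp only [d]
              rw [← pow_mul, show 4 = 2 ^ 2 by norm_num, ← pow_add, show k - 2 + 2 = k by omega],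
              mul_pow, inv_pow, hd1, hd2, e2]
            rw [mul_inv_eq_iff_eq_mul]; ac_rfl
          obtain ⟨u, hu⟩ := hpre (c * (d * d)⁻¹) (sq_div_eq_one e3)
          refine ⟨d1 ^ 2 ^ (k - 1) * (u ^ 2 ^ (f - 2) * d), ?_⟩
          rw [e1, ← hd1]
          congr 2
          calc d1 ^ 2 ^ k * c = d1 ^ 2 ^ k * (u ^ 2 ^ (f - 1) * (d * d)) := by
                rw [hu, inv_mul_cancel_right]
            _ = _ := by
              rw [show k = k - 1 + 1 by omega, pow_succ', show f - 1 = f - 2 + 1 by omega, pow_succ',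
                pow_mul, pow_mul, pow_two, pow_two]
              simp only [mul_pow, show k - 1 + 1 - 1 = k - 1 by omega]
              ac_rfl
        have hsq2 : ∀ e : A, (e * e) ^ 2 ^ (f - 1) = 1 := fun e => by
          rw [mul_pow, hsq1]
        let β : P → P → P := fun y z =>
          if hz : z * z ∈ A then ((D y ⟨z * z, hz⟩ : A) : P) else 1
        have hβ : ∀ y (z : U), β y z = ((D y (q z) : A) : P) := fun y z => dif_pos (hsqA _ z.2)
        have hs : ∀ z : U, s z = ((q z ^ 2 ^ (f - 1) : A) : P) := fun z => by simp [s, q]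
        have hker : ∀ y ∈ U, s y = 1 → y ∈ A := by
          intro y hy e
          obtain ⟨b, hb⟩ := hroot (f - 1) (by omega) (q ⟨y, hy⟩)
            (Subtype.ext ((hs ⟨y, hy⟩).symm.trans e))
          rw [show f - (f - 1) = 1 by omega, pow_one, pow_two] at hb
          exact hin y hy b (congrArg Subtype.val hb.symm)
        have hβ0 := h.pairing_eq_one U hUinv s β
          (fun u hu => by rw [hs ⟨u, hu⟩]; exact congrArg Subtype.val (hsq1 _))
          (fun u hu v hv => by
            obtain ⟨e, he⟩ := hsmul ⟨u, hu⟩ ⟨v, hv⟩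
            have := congrArg (fun a : A => ((a ^ 2 ^ (f - 1) : A) : P)) he
            simp only [mul_pow, hsq2, ← mul_pow e, one_mul, Subgroup.coe_mul] at this
            rw [hs ⟨u, hu⟩, hs ⟨v, hv⟩]
            exact (hs (⟨u, hu⟩ * ⟨v, hv⟩)).trans this)
          (fun j _ u _ => by simp [s])
          ⟨y₁, hy₁, fun e => hy₁A (hker y₁ hy₁ e)⟩
          (fun u hu v hv => by rw [hβ u ⟨v, hv⟩]; exact congrArg Subtype.val (Dsq u hu _))
          (fun u hu v hv w hw => by
            rw [hβ _ ⟨w, hw⟩, hβ u ⟨w, hw⟩, hβ v ⟨w, hw⟩, Dadd u hu v hv, Subgroup.coe_mul])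
          (fun u hu v hv w hw => by
            obtain ⟨e, he⟩ := hsmul ⟨v, hv⟩ ⟨w, hw⟩
            rw [hβ u ⟨v, hv⟩, hβ u ⟨w, hw⟩]
            refine (hβ u (⟨v, hv⟩ * ⟨w, hw⟩)).trans ?_
            rw [he, Dmul, Dmul, Dsqarg u hu, one_mul, Subgroup.coe_mul])
          (fun j hj u _ v hv => by
            rw [hβ _ ⟨j v, hUinv j hj v hv⟩, hβ u ⟨v, hv⟩]
            have e : q ⟨j v, hUinv j hj v hv⟩ = kA ⟨j, hj⟩ (q ⟨v, hv⟩) := Subtype.ext (by simp [q, kA])
            rw [e, show (j u : P) = ((⟨j, hj⟩ : K) : MulAut P) u from rfl, Dk])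
          (fun u hu e v hv => by
            have huA := hker u hu e
            refine ⟨by rw [hβ u ⟨v, hv⟩, DA u huA]; rfl, ?_⟩
            rw [hβ v ⟨u, hu⟩, show q ⟨u, hu⟩ = ⟨u, huA⟩ * ⟨u, huA⟩ from rfl, Dsqarg v hv]
            rfl)
          (fun u hu => by
            rw [hβ u ⟨u, hu⟩]
            have : δ u (q ⟨u, hu⟩) = 1 := Subtype.ext (by
              simp only [hδ, q, OneMemClass.coe_one]; group)
            simp only [D, this, one_pow, OneMemClass.coe_one])
        intro y hy a
        by_cases ha : a ^ 2 ^ (f - 1) = 1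
        · rw [Dcongr y hy a 1 (by rw [ha, one_pow]), D1]
        obtain ⟨j, hj, hja⟩ := h.trans (s y₁) ((a ^ 2 ^ (f - 1) : A) : P)
          (fun e => hy₁A (hker y₁ hy₁ e))
          (by rw [hs ⟨y₁, hy₁⟩]; exact congrArg Subtype.val (hsq1 _))
          (fun e => ha (Subtype.ext e)) (congrArg Subtype.val (hsq1 _))
        let z : U := ⟨j y₁, hUinv j hj y₁ hy₁⟩
        rw [Dcongr y hy a (q z) (Subtype.ext ?_)]
        · exact Subtype.ext ((hβ y z).symm.trans (hβ0 y hy _ z.2))
        · rw [← hja, ← hs z]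
          simp [s, z]
      · -- `k = 1`
        obtain rfl : k = 1 := by omega
        intro y hy a
        by_contra hya
        have idem : ∀ y ∈ U, ∀ a c : A, c ^ 2 ^ (f - 1) = D y a → D y c = D y a := by
          intro y hy a c hc
          obtain ⟨b, hb⟩ := hdiv y hy a
          rw [Dcongr y hy c b (hc.trans (Dtop y hy a b hb))]
          have e := δmul y y a
          rw [δA _ (hsqA y hy)] at e
          have e2 := congrArg (fun t : A => t ^ 2 ^ (f - 3)) e
          simp only [one_pow, mul_pow] at e2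
          have hb' : δ y a = b * b := by rw [← hb]; simp [pow_two]
          have e3 : δ y (δ y a) ^ 2 ^ (f - 3) = D y b := by
            simp only [D, hb', ← pow_two, map_pow, ← pow_mul, ← pow_succ',
              show f - 3 + 1 = f - 1 - 1 by omega]
          have e4 : δ y a ^ 2 ^ (f - 3) * δ y a ^ 2 ^ (f - 3) = D y a := by
            simp only [D, ← pow_add, ← two_mul, ← pow_succ', show f - 3 + 1 = f - 1 - 1 by omega]
          rw [mul_assoc, e4, e3] at e2
          exact eq_of_mul_eq_one_of_sq e2.symm (Dsq y hy a)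
        have comm : ∀ y ∈ U, ∀ z ∈ U, ∀ a b c : A, b ^ 2 ^ (f - 1) = D z a →
            c ^ 2 ^ (f - 1) = D y a → D y b = D z c := by
          intro y hy z hz a b c hb hc
          have e := idem (y * z) (U.mul_mem hy hz) a (c * b) (by rw [mul_pow, hb, hc, Dadd y hy z hz])
          rw [Dadd y hy z hz, Dadd y hy z hz, Dmul, Dmul, idem y hy a c hc, idem z hz a b hb] at e
          have e' : D y b * D z c = 1 := by
            apply mul_right_cancel (b := D y a * D z a)
            rw [one_mul]
            calc D y b * D z c * (D y a * D z a) = D y a * D y b * (D z c * D z a) := by ac_rfl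
              _ = _ := e
          exact eq_of_mul_eq_one_of_sq e' (Dsq z hz c)
        -- a joint eigenvector
        let T : A → Set P := fun a => {y | y ∈ U ∧ D y a = a ^ 2 ^ (f - 1)}
        obtain ⟨x, hx1, hxmax⟩ := Set.Finite.exists_maximalFor (fun a => (T a).ncard)
          {a : A | a ^ 2 ^ (f - 1) ≠ 1} (Set.toFinite _) ⟨⟨a₀, ha₀⟩, hs₀⟩
        have heig : ∀ z ∈ U, D z x = 1 ∨ D z x = x ^ 2 ^ (f - 1) := by
          intro z hz
          by_contra hcon
          push_neg at hcon
          obtain ⟨c, hc⟩ := hpre _ (Dsq z hz x)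
          have hsub : T x ⊆ T c := fun w hw => ⟨hw.1, by
            rw [comm w hw.1 z hz x c x hc hw.2.symm, hc]⟩
          have hzc : z ∈ T c := ⟨hz, by rw [idem z hz x c hc, hc]⟩
          have hle := hxmax (j := c) (show c ^ 2 ^ (f - 1) ≠ 1 by rw [hc]; exact hcon.1)
            (Set.ncard_le_ncard hsub (Set.toFinite _))
          have := Set.eq_of_subset_of_ncard_le hsub hle (Set.toFinite _)
          rw [← this] at hzc
          exact hcon.2 hzc.2
        have hall : ∀ y ∈ U, ∀ b : A, D y b = 1 ∨ D y b = b ^ 2 ^ (f - 1) := by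
          intro y hy b
          by_cases hb : b ^ 2 ^ (f - 1) = 1
          · left; rw [Dcongr y hy b 1 (by rw [hb, one_pow]), D1]
          obtain ⟨j, hj, hjb⟩ := h.trans ((x ^ 2 ^ (f - 1) : A) : P) ((b ^ 2 ^ (f - 1) : A) : P)
            (fun e => hx1 (Subtype.ext e)) (congrArg Subtype.val (hsq1 _))
            (fun e => hb (Subtype.ext e)) (congrArg Subtype.val (hsq1 _))
          have hs : kA ⟨j, hj⟩ x ^ 2 ^ (f - 1) = b ^ 2 ^ (f - 1) := by
            rw [← kA_pow]; exact Subtype.ext hjb
          obtain ⟨y', rfl⟩ := j.surjective y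
          have hy' : y' ∈ U := by
            have := hUinv j⁻¹ (K.inv_mem hj) _ hy
            rwa [← MulAut.mul_apply, inv_mul_cancel, MulAut.one_apply] at this
          rw [← Dcongr (j y') hy _ b hs, show (j y' : P) = ((⟨j, hj⟩ : K) : MulAut P) y' from rfl, Dk]
          rcases heig y' hy' with e | e <;> rw [e]
          · left; exact Subtype.ext (map_one j)
          · right; rw [kA_pow, hs]
        have hsc : ∀ b : A, D y b = b ^ 2 ^ (f - 1) := by
          intro b
          rcases hall y hy b with e | e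
          swap; · exact e
          by_contra hb
          have hb' : b ^ 2 ^ (f - 1) ≠ 1 := fun e' => hb (e.trans e'.symm)
          have ha' := (hall y hy a).resolve_left hya
          rcases hall y hy (a * b) with e2 | e2 <;> rw [Dmul, e, mul_one] at e2
          · exact hya e2
          · rw [mul_pow, ha', left_eq_mul] at e2; exact hb' e2
        -- `K` acts freely on these elements
        let Y := {z : U // ∀ b, D (z : P) b = b ^ 2 ^ (f - 1)}
        let N : Subgroup U :=
          { carrier := {z : U | ∀ b, D (z : P) b = 1}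
            one_mem' := fun b => DA 1 A.one_mem b
            mul_mem' := fun {u v} hu hv b => by
              rw [Subgroup.coe_mul, Dadd _ u.2 _ v.2, hu, hv, one_mul]
            inv_mem' := fun {u} hu b => by
              have := Dadd _ u.2 _ (u⁻¹).2 b
              rwa [InvMemClass.coe_inv, mul_inv_cancel, DA 1 A.one_mem, hu, one_mul, eq_comm] at this }
        let y0 : U := ⟨y, hy⟩
        have eYN : N ≃ Y :=
          { toFun := fun n => ⟨y0 * n.1, fun b => by
              rw [Subgroup.coe_mul, Dadd _ hy _ n.1.2, n.2, mul_one]; exact hsc b⟩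
            invFun := fun z => ⟨y0⁻¹ * z.1, fun b => by
              have e := Dadd y hy _ (y0⁻¹ * z.1).2 b
              rw [hsc] at e
              have e2 : y * ((y0⁻¹ * z.1 : U) : P) = (z.1 : P) := by simp [y0]
              rw [e2, z.2] at e
              exact left_eq_mul.mp e⟩
            left_inv := fun n => by simp
            right_inv := fun z => by simp }
        let jU : K → U → U := fun j z => ⟨(j : MulAut P) z, hUinv j j.2 _ z.2⟩
        have hYk : ∀ (j : K) (z : Y), ∀ b, D (jU j z.1 : P) b = b ^ 2 ^ (f - 1) := by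
          intro j z b
          obtain ⟨b', hb'⟩ : ∃ b', kA j b' = b :=
            ⟨kA j⁻¹ b, Subtype.ext (by simp [kA])⟩
          rw [← hb', ← kA_pow, ← z.2 b']
          exact Dk j _ _
        letI : MulAction K Y :=
          { smul := fun j z => ⟨jU j z.1, hYk j z⟩
            one_smul := fun _ => rfl
            mul_smul := fun _ _ _ => rfl }
        have hfree : ∀ z : Y, MulAction.stabilizer K z = ⊥ := by
          intro z
          rw [Subgroup.eq_bot_iff_forall]
          intro j hj
          have hjz : (j : MulAut P) ((z.1 : U) : P) = z.1 :=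
            congrArg (fun w : Y => ((w.1 : U) : P)) (MulAction.mem_stabilizer_iff.mp hj)
          have hzA : ((z.1 : U) : P) ∉ A := fun e => hs₀ ((z.2 _).symm.trans (DA _ e _))
          let m : A := ⟨_, hsqA _ z.1.2⟩
          have hm : δ ((z.1 : U) : P) m = 1 := Subtype.ext (by
            simp only [hδ, m, OneMemClass.coe_one]; group)
          have desc : ∀ i, m ^ 2 ^ i = 1 → m * m = 1 := by
            intro i
            induction i with
            | zero => intro e; rw [pow_zero, pow_one] at e; rw [e, one_mul]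
            | succ i ihi =>
              intro e
              rcases Nat.eq_zero_or_pos i with rfl | hi
              · rwa [show 2 ^ (0 + 1) = 2 from rfl, pow_two] at e
              refine ihi ?_
              by_cases hif : f < i + 1
              · obtain ⟨d, rfl⟩ := Nat.exists_eq_add_of_le (show f ≤ i by omega)
                rw [pow_add, pow_mul, hf1, one_pow]
              obtain ⟨c, hc⟩ := hroot (i + 1) (by omega) m e
              have e1 : D ((z.1 : U) : P) c = 1 := by
                show δ _ c ^ 2 ^ (f - 1 - 1) = 1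
                rw [show f - 1 - 1 = f - (i + 1) + (i - 1) by omega, pow_add, pow_mul, ← map_pow,
                  hc, hm, one_pow]
              rw [z.2] at e1
              rw [← hc, ← pow_mul, ← pow_add, show f - (i + 1) + i = f - 1 by omega, e1]
          have hm2 := congrArg Subtype.val (desc f (hf1 m))
          have hm1 : ((z.1 : U) : P) * z.1 ≠ 1 := fun e => hzA (hA.omega _ e)
          exact Subtype.ext (h.reg j j.2 _ hm1 hm2 (by rw [map_mul, hjz]))
        have hcard := Nat.card_congr (MulAction.selfEquivOrbitsQuotientProd hfree)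
        rw [Nat.card_prod, ← Nat.card_congr eYN] at hcard
        haveI : Fact (Nat.Prime 2) := ⟨Nat.prime_two⟩
        obtain ⟨i, hi⟩ := IsPGroup.iff_card.1 ((h.pgroup.to_subgroup U).to_subgroup N)
        obtain ⟨n, hn, hK⟩ := h.card_K
        have hdvd : 2 ^ n - 1 ∣ 2 ^ i := by
          rw [← hi, hcard, ← hK]; exact dvd_mul_left _ _
        obtain ⟨l, -, hl⟩ := (Nat.dvd_prime_pow Nat.prime_two).mp hdvd
        have h4 : 2 ^ n % 2 = 0 := Nat.mod_eq_zero_of_dvd (dvd_pow_self 2 (by omega)) |> id
        have h5 : 4 ≤ 2 ^ n := le_trans (by norm_num) (Nat.pow_le_pow_right (by omega : 0 < 2) hn)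
        rcases Nat.eq_zero_or_pos l with rfl | hl0
        · simp at hl; omega
        · have : 2 ^ l % 2 = 0 := Nat.mod_eq_zero_of_dvd (dvd_pow_self 2 (by omega))
          omega
  refine hy₁A (hself y₁ fun a ha => ?_)
  obtain ⟨b, hb⟩ := hDiv f (by omega) le_rfl y₁ hy₁ ⟨a, ha⟩
  rw [hf1] at hb
  have := congrArg Subtype.val hb.symm
  rw [hδ, OneMemClass.coe_one] at this
  exact mul_inv_eq_iff_eq_mul.mp (mul_inv_eq_one.mp this)

/-- The centre of a Suzuki 2-group consists of involutions. -/
theorem center_sq {z : P} (hz : z ∈ Subgroup.center P) : z * z = 1 := by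
  classical
  haveI := h.fin
  obtain ⟨e, he1, he, he'⟩ := h.exists_exponent (abl_center h)
  by_cases h2 : e = 1
  · subst h2
    have := he z hz
    rwa [pow_one, pow_two] at this
  exfalso
  obtain ⟨x, y, hxy⟩ := h.nonabelian
  obtain ⟨hW, -, w, hwW, hw⟩ := h.layer_comm (abl_center h) (C := ⊤) inferInstance
    (fun k _ x _ => Subgroup.mem_top _) le_top
    (fun c _ a ha => Subgroup.mem_center_iff.mp ha c)
    (fun hle => hxy ((Subgroup.mem_center_iff.mp (hle (Subgroup.mem_top x)) y).symm))
    (by omega) he he'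
  obtain ⟨A, hWA, hAmax⟩ := (Set.toFinite {A : Subgroup P | Abl K A}).exists_le_maximal hW
  have hA : Abl K A := hAmax.prop
  haveI := hA.normal
  obtain ⟨f, hf1, hf, hf'⟩ := h.exists_exponent hA
  have h3 : 3 ≤ f := by
    by_contra hlt
    apply hw
    obtain ⟨d, hd⟩ := Nat.exists_eq_add_of_le (show f ≤ e by omega)
    rw [hd, pow_add, pow_mul, hf w (hWA hwW), one_pow]
  by_cases hle : Subgroup.centralizer (A : Set P) ≤ A
  · refine h.selfCentralizing_false hA (fun e => hxy ?_) (fun y hy => hle ?_) h3 hf hf'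
    · exact hA.comm x (e ▸ Subgroup.mem_top x) y (e ▸ Subgroup.mem_top y)
    · exact Subgroup.mem_centralizer_iff.mpr fun a ha => (hy a ha).symm
  · obtain ⟨hU, ⟨u, hu, huA⟩, -⟩ := h.layer_comm hA (C := Subgroup.centralizer (A : Set P))
      ⟨fun c hc g => Subgroup.mem_centralizer_iff.mpr fun a ha => by
        have h1 := Subgroup.mem_centralizer_iff.mp hc _ (hA.normal.conj_mem a ha g⁻¹)
        calc a * (g * c * g⁻¹) = g * (g⁻¹ * a * g⁻¹⁻¹ * c) * g⁻¹ := by group
          _ = g * (c * (g⁻¹ * a * g⁻¹⁻¹)) * g⁻¹ := by rw [h1]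
          _ = g * c * g⁻¹ * a := by group⟩
      (fun k hk c hc => Subgroup.mem_centralizer_iff.mpr fun a ha => by
        have hka := hA.inv k⁻¹ (K.inv_mem hk) a ha
        have h1 := congrArg k (Subgroup.mem_centralizer_iff.mp hc _ hka)
        rwa [map_mul, map_mul, ← MulAut.mul_apply, mul_inv_cancel, MulAut.one_apply] at h1)
      (fun a ha => Subgroup.mem_centralizer_iff.mpr fun b hb => hA.comm b hb a ha)
      (fun c hc a ha => ((Subgroup.mem_centralizer_iff.mp hc) a ha).symm) hle (by omega) hf hf'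
    have hle' := hAmax.le_of_ge (show layer A _ ∈ {B : Subgroup P | Abl K B} from hU)
      (le_layer (fun a ha => Subgroup.mem_centralizer_iff.mpr fun b hb => hA.comm b hb a ha))
    exact huA (hle' hu)

end Ctx

end CfsgLib.SuzukiTwo
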