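import Mathlib
import Cfsg.Agent.SuzukiTwo.Center

/-!
A Suzuki 2-group with central squares has exponent four and order `q²` or `q³`, where `q` is the order
of its centre: the squaring map consists of `n` quadrics without a common zero.
-/

set_option autoImplicit false
set_option linter.unusedSectionVars false
set_option linter.style.haveILetI false

namespace CfsgLib.SuzukiTwo

/-- A quadratic map over the field with two elements without non-zero zeros at most doubles the
dimension. -/
theorem finrank_le_two_mul {V W : Type*} [AddCommGroup V] [Module (ZMod 2) V] [Finite V]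
    [AddCommGroup W] [Module (ZMod 2) W] [Finite W] (Q : V → W) (B : V → V → W)
    (hQ : ∀ x y, Q (x + y) = Q x + Q y + B x y) (hB : ∀ x y z, B (x + y) z = B x z + B y z)
    (hne : ∀ x, Q x = 0 → x = 0) (h0 : Q 0 = 0) :
    Module.finrank (ZMod 2) V ≤ 2 * Module.finrank (ZMod 2) W := by
  classical
  by_contra hlt
  let e := Module.finBasis (ZMod 2) V
  let w := Module.finBasis (ZMod 2) W
  have hB' : ∀ x y, B x y = B y x := fun x y => by
    have h1 := hQ x y; have h2 := hQ y x
    rw [add_comm y x, h1, add_comm (Q y) (Q x)] at h2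
    exact add_left_cancel h2
  have hsmul : ∀ (c : ZMod 2) (x y : V), B (c • x) y = c • B x y := fun c x y =>
    map_smul ((AddMonoidHom.mk' (fun t => B t y) fun s t => hB s t y).toZModLinearMap 2) c x
  have hBsum : ∀ (s : Finset (Fin (Module.finrank (ZMod 2) V)))
      (a : Fin (Module.finrank (ZMod 2) V) → ZMod 2) (x : V),
      B x (∑ i ∈ s, a i • e i) = ∑ i ∈ s, a i • B x (e i) := fun s a x => by
    have : ∀ t, B x t = (AddMonoidHom.mk' (fun t => B t x) fun s t => hB s t x).toZModLinearMap 2 t :=
      fun t => hB' x t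
    rw [this, map_sum]
    exact Finset.sum_congr rfl fun i _ => by rw [map_smul, ← this]
  have hQsmul : ∀ (c : ZMod 2) (x : V), Q (c • x) = c • Q x := fun c x => by
    rcases (show ∀ c : ZMod 2, c = 0 ∨ c = 1 by decide) c with rfl | rfl
    · rw [zero_smul, zero_smul, h0]
    · rw [one_smul, one_smul]
  have hpoly : ∀ (s : Finset (Fin (Module.finrank (ZMod 2) V))) (k : Fin (Module.finrank (ZMod 2) W)),
      ∃ f : MvPolynomial (Fin (Module.finrank (ZMod 2) V)) (ZMod 2), f.totalDegree ≤ 2 ∧
        ∀ a, MvPolynomial.eval a f = w.coord k (Q (∑ i ∈ s, a i • e i)) := by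
    intro s k
    induction s using Finset.induction_on with
    | empty => exact ⟨0, by simp, fun a => by simp [h0]⟩
    | @insert j s hj ih =>
      obtain ⟨f, hf, hfe⟩ := ih
      refine ⟨MvPolynomial.C (w.coord k (Q (e j))) * MvPolynomial.X j + f +
        ∑ i ∈ s, MvPolynomial.C (w.coord k (B (e j) (e i))) * (MvPolynomial.X j * MvPolynomial.X i),
        ?_, fun a => ?_⟩
      · refine (MvPolynomial.totalDegree_add _ _).trans (max_le
          ((MvPolynomial.totalDegree_add _ _).trans (max_le ?_ hf)) ?_)
        · refine (MvPolynomial.totalDegree_mul _ _).trans ?_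
          simp [MvPolynomial.totalDegree_C, MvPolynomial.totalDegree_X]
        · refine MvPolynomial.totalDegree_finsetSum_le fun i _ => ?_
          refine (MvPolynomial.totalDegree_mul _ _).trans ?_
          refine (Nat.add_le_add_left (MvPolynomial.totalDegree_mul _ _) _).trans ?_
          simp [MvPolynomial.totalDegree_C, MvPolynomial.totalDegree_X]
      · rw [Finset.sum_insert hj, hQ, hsmul, hBsum, hQsmul]
        simp only [map_add, map_smul, map_sum, smul_eq_mul, map_mul, MvPolynomial.eval_C,
          MvPolynomial.eval_X, hfe, Finset.mul_sum]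
        congr 1
        · ring
        · exact Finset.sum_congr rfl fun i _ => by ring
  choose f hf hfe using hpoly Finset.univ
  have hdeg : (∑ k, (f k).totalDegree) < Fintype.card (Fin (Module.finrank (ZMod 2) V)) := by
    refine lt_of_le_of_lt (Finset.sum_le_card_nsmul _ _ 2 fun k _ => hf k) ?_
    simp only [Finset.card_univ, Fintype.card_fin, smul_eq_mul]
    omega
  have h2 := char_dvd_card_solutions_of_fintype_sum_lt 2 hdeg
  have hzero : ∀ a, (∀ k, MvPolynomial.eval a (f k) = 0) ↔ Q (∑ i, a i • e i) = 0 := fun a => by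
    simp only [hfe]
    exact w.forall_coord_eq_zero_iff
  have hz : ∀ a, (∀ k, MvPolynomial.eval a (f k) = 0) ↔ a = 0 := fun a => by
    rw [hzero]
    constructor
    · intro h
      exact funext fun i => Fintype.linearIndependent_iff.1 e.linearIndependent a (hne _ h) i
    · rintro rfl
      simp [h0]
  have h2' : 2 ∣ Nat.card {a // ∀ k, MvPolynomial.eval a (f k) = 0} := by
    convert h2 using 1
    convert Nat.card_eq_fintype_card using 2
  rw [Nat.card_congr (Equiv.subtypeEquivRight hz), Nat.card_eq_fintype_card,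
    Fintype.card_subtype_eq] at h2'
  omega

variable {P : Type*} [Group P] {K : Subgroup (MulAut P)}

namespace Ctx

variable (h : Ctx P K) (hsq : ∀ x : P, x * x ∈ Subgroup.center P)
include h hsq

theorem pow_four (x : P) : x * x * (x * x) = 1 := h.center_sq (hsq x)

omit h in
theorem commutator_central (x y : P) : x⁻¹ * y⁻¹ * x * y ∈ Subgroup.center P := by
  rw [show x⁻¹ * y⁻¹ * x * y = x⁻¹ * x⁻¹ * (x * y⁻¹ * (x * y⁻¹)) * (y * y) by group]
  exact mul_mem (mul_mem (hsq _) (hsq _)) (hsq _)

omit hsq in
theorem mem_center_iff' {x : P} : x ∈ Subgroup.center P ↔ x * x = 1 :=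
  ⟨h.center_sq, fun hx => Subgroup.mem_center_iff.mpr fun g => h.central hx g⟩

omit hsq in
theorem card_K_add_one : Nat.card K + 1 = Nat.card (Subgroup.center P) := by
  classical
  haveI := h.fin
  obtain ⟨x, y, hxy, hx1, hx, -, -⟩ := h.two_involutions
  have hinv : ∀ k : K, (k : MulAut P) x ≠ 1 ∧ (k : MulAut P) x * (k : MulAut P) x = 1 := fun k =>
    ⟨fun e => hx1 ((map_eq_one_iff _ (k : MulAut P).injective).1 e), by rw [← map_mul, hx, map_one]⟩
  let φ : K → {z : Subgroup.center P // z ≠ 1} := fun k =>
    ⟨⟨(k : MulAut P) x, h.mem_center_iff'.2 (hinv k).2⟩, fun e => (hinv k).1 (congrArg Subtype.val e)⟩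
  have hφ : Function.Bijective φ := by
    constructor
    · intro k k' e
      have e' : (k : MulAut P) x = (k' : MulAut P) x :=
        congrArg (fun z : {z : Subgroup.center P // z ≠ 1} => ((z : Subgroup.center P) : P)) e
      have h1 := h.reg _ (K.mul_mem (K.inv_mem k'.2) k.2) x hx1 hx (by
        rw [MulAut.mul_apply, e', ← MulAut.mul_apply, inv_mul_cancel, MulAut.one_apply])
      exact Subtype.ext (inv_mul_eq_one.1 h1).symm
    · rintro ⟨⟨z, hz⟩, hz1⟩
      obtain ⟨k, hk, hkz⟩ := h.trans x z hx1 hx (fun e => hz1 (Subtype.ext e)) (h.center_sq hz)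
      exact ⟨⟨k, hk⟩, Subtype.ext (Subtype.ext hkz)⟩
  haveI := Fintype.ofFinite P
  rw [Nat.card_congr (Equiv.ofBijective φ hφ), Nat.card_eq_fintype_card,
    Fintype.card_subtype_compl (fun z => z = (1 : Subgroup.center P)), Fintype.card_subtype_eq,
    ← Nat.card_eq_fintype_card]
  have := Nat.card_pos (α := Subgroup.center P)
  omega

omit hsq in
theorem card_K_dvd :
    Nat.card K ∣ Nat.card (Subgroup.center P) * (Nat.card (P ⧸ Subgroup.center P) - 1) := by
  classical
  haveI := h.fin
  haveI := Fintype.ofFinite P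
  let S := {x : P // x ∉ Subgroup.center P}
  letI : MulAction K S :=
    { smul := fun k x => ⟨(k : MulAut P) x.1, fun hm => x.2 (h.mem_center_iff'.2 (by
        have hm' := h.center_sq hm
        rwa [← map_mul, map_eq_one_iff _ (k : MulAut P).injective] at hm'))⟩
      one_smul := fun x => rfl
      mul_smul := fun k k' x => rfl }
  have hfree : ∀ x : S, MulAction.stabilizer K x = ⊥ := by
    intro x
    rw [Subgroup.eq_bot_iff_forall]
    intro k hk
    have hk' : (k : MulAut P) x.1 = x.1 := congrArg Subtype.val hk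
    refine Subtype.ext ?_
    by_cases h4 : x.1 * x.1 * (x.1 * x.1) = 1
    · exact h.reg k k.2 (x.1 * x.1) (fun e => x.2 (h.mem_center_iff'.2 e)) h4
        (by rw [map_mul, hk'])
    · obtain ⟨m, hm1, hm2⟩ := h.exists_involution_power (fun e => x.2 (e ▸ one_mem _) : x.1 ≠ 1)
      exact h.reg k k.2 _ hm1 hm2 (by rw [map_pow, hk'])
  have hS : Nat.card S = Nat.card (Subgroup.center P) * (Nat.card (P ⧸ Subgroup.center P) - 1) := by
    rw [Nat.card_eq_fintype_card, Fintype.card_subtype_compl, ← Nat.card_eq_fintype_card,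
      ← Nat.card_eq_fintype_card, Nat.mul_sub_one]
    rw [(Subgroup.center P).card_eq_card_quotient_mul_card_subgroup, mul_comm]
  rw [← hS, Nat.card_congr (MulAction.selfEquivOrbitsQuotientProd hfree), Nat.card_prod]
  exact dvd_mul_left _ _

theorem card_quotient_le :
    Nat.card (P ⧸ Subgroup.center P) ≤ Nat.card (Subgroup.center P) ^ 2 := by
  classical
  haveI := h.fin
  set Z := Subgroup.center P with hZ
  letI : CommGroup (P ⧸ Z) := { (inferInstance : Group (P ⧸ Z)) with
    mul_comm := fun p q => by
      induction p using QuotientGroup.induction_on with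
      | H x =>
        induction q using QuotientGroup.induction_on with
        | H y =>
          rw [← QuotientGroup.mk_mul, ← QuotientGroup.mk_mul, QuotientGroup.eq]
          rw [show (x * y)⁻¹ * (y * x) = y⁻¹ * x⁻¹ * y * x by group]
          exact commutator_central hsq y x }
  haveI : IsMulCommutative Z := inferInstance
  letI : CommGroup Z := { (inferInstance : Group Z) with
    mul_comm := fun p q => Subtype.ext (Subgroup.mem_center_iff.1 q.2 p.1) }
  letI : Module (ZMod 2) (Additive (P ⧸ Z)) := AddCommGroup.zmodModule (fun p => by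
    induction (Additive.toMul p : P ⧸ Z) using QuotientGroup.induction_on generalizing p with
    | H x => exact Additive.toMul.injective (by
        rw [toMul_nsmul, toMul_zero, pow_two]
        induction (Additive.toMul p : P ⧸ Z) using QuotientGroup.induction_on with
        | H y => rw [← QuotientGroup.mk_mul, QuotientGroup.eq_one_iff]; exact hsq y))
  letI : Module (ZMod 2) (Additive Z) := AddCommGroup.zmodModule (fun p =>
    Additive.toMul.injective (Subtype.ext (by
      rw [toMul_nsmul, toMul_zero, pow_two]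
      exact h.center_sq (Additive.toMul p : Z).2)))
  let sq : P ⧸ Z → Z := fun p => Quotient.liftOn' p (fun x => (⟨x * x, hsq x⟩ : Z)) (by
    intro x y hxy
    rw [QuotientGroup.leftRel_apply] at hxy
    refine Subtype.ext ?_
    have hz := h.center_sq hxy
    have hc := Subgroup.mem_center_iff.1 hxy
    calc x * x = x * x * (x⁻¹ * y * (x⁻¹ * y)) := by rw [hz, mul_one]
      _ = x * (x * (x⁻¹ * y)) * (x⁻¹ * y) := by group
      _ = x * ((x⁻¹ * y) * x) * (x⁻¹ * y) := by rw [hc x]
      _ = y * y := by group)
  let Q : Additive (P ⧸ Z) → Additive Z := fun p => Additive.ofMul (sq (Additive.toMul p))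
  let B : Additive (P ⧸ Z) → Additive (P ⧸ Z) → Additive Z := fun p q => Q (p + q) - Q p - Q q
  have hc : ∀ x y : P, y * x * y⁻¹ * x⁻¹ ∈ Z := fun x y => by
    simpa using commutator_central hsq y⁻¹ x⁻¹
  have hBval : ∀ x y : P, B (Additive.ofMul (x : P ⧸ Z)) (Additive.ofMul (y : P ⧸ Z))
      = Additive.ofMul (⟨y * x * y⁻¹ * x⁻¹, hc x y⟩ : Z) := by
    intro x y
    show Additive.ofMul (⟨x * y * (x * y), hsq _⟩ : Z) - Additive.ofMul (⟨x * x, hsq x⟩ : Z)
      - Additive.ofMul (⟨y * y, hsq y⟩ : Z) = _
    rw [sub_eq_iff_eq_add, sub_eq_iff_eq_add, ← ofMul_mul, ← ofMul_mul]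
    refine congrArg Additive.ofMul (Subtype.ext ?_)
    show x * y * (x * y) = y * x * y⁻¹ * x⁻¹ * (y * y) * (x * x)
    have hcc := Subgroup.mem_center_iff.1 (hc x y)
    have hyy := Subgroup.mem_center_iff.1 (hsq y)
    calc x * y * (x * y) = x * (y * x * y⁻¹ * x⁻¹) * x * (y * y) := by group
      _ = (y * x * y⁻¹ * x⁻¹) * x * x * (y * y) := by rw [hcc x]
      _ = _ := by rw [mul_assoc (y * x * y⁻¹ * x⁻¹) x x, mul_assoc (y * x * y⁻¹ * x⁻¹), hyy (x * x),
          ← mul_assoc]
  have hle := finrank_le_two_mul Q B (fun x y => by simp only [B]; abel) (fun p q r => by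
      obtain ⟨x, rfl⟩ := Additive.ofMul.surjective p
      obtain ⟨y, rfl⟩ := Additive.ofMul.surjective q
      obtain ⟨z, rfl⟩ := Additive.ofMul.surjective r
      induction x using QuotientGroup.induction_on with
      | H x =>
        induction y using QuotientGroup.induction_on with
        | H y =>
          induction z using QuotientGroup.induction_on with
          | H z =>
            rw [hBval x z, hBval y z, ← ofMul_mul, ← ofMul_mul, ← QuotientGroup.mk_mul, hBval]
            refine congrArg Additive.ofMul (Subtype.ext ?_)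
            show z * (x * y) * z⁻¹ * (x * y)⁻¹ = z * x * z⁻¹ * x⁻¹ * (z * y * z⁻¹ * y⁻¹)
            calc z * (x * y) * z⁻¹ * (x * y)⁻¹
                = z * x * z⁻¹ * ((z * y * z⁻¹ * y⁻¹) * x⁻¹) := by group
              _ = z * x * z⁻¹ * (x⁻¹ * (z * y * z⁻¹ * y⁻¹)) := by
                rw [Subgroup.mem_center_iff.1 (hc y z) x⁻¹]
              _ = _ := by group)
    (fun p hp => by
      obtain ⟨x, rfl⟩ := Additive.ofMul.surjective p
      induction x using QuotientGroup.induction_on with
      | H x =>
        have hx : x * x = 1 := congrArg (fun z : Additive Z => ((Additive.toMul z : Z) : P)) hp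
        have : (x : P ⧸ Z) = 1 := (QuotientGroup.eq_one_iff x).2 (h.mem_center_iff'.2 hx)
        rw [this, ofMul_one])
    (congrArg Additive.ofMul (Subtype.ext (one_mul 1)))
  have hV := Module.natCard_eq_pow_finrank (K := ZMod 2) (V := Additive (P ⧸ Z))
  have hW := Module.natCard_eq_pow_finrank (K := ZMod 2) (V := Additive Z)
  rw [Nat.card_zmod] at hV hW
  have eV : Nat.card (P ⧸ Z) = Nat.card (Additive (P ⧸ Z)) := Nat.card_congr Additive.ofMul
  have eW : Nat.card Z = Nat.card (Additive Z) := Nat.card_congr Additive.ofMul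
  rw [eV, eW, hV, hW, ← pow_mul, mul_comm (Module.finrank (ZMod 2) (Additive Z)) 2]
  exact Nat.pow_le_pow_right (by norm_num) hle

/-- `|P| = q²` or `|P| = q³`. -/
theorem card_eq_sq_or_cube :
    Nat.card P = Nat.card (Subgroup.center P) ^ 2 ∨ Nat.card P = Nat.card (Subgroup.center P) ^ 3 := by
  haveI := h.fin
  haveI : Fact (Nat.Prime 2) := ⟨Nat.prime_two⟩
  obtain ⟨n, hn⟩ := IsPGroup.iff_card.1 (h.pgroup.to_subgroup (Subgroup.center P))
  obtain ⟨s, hs⟩ := IsPGroup.iff_card.1 (h.pgroup.to_quotient (Subgroup.center P))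
  have hK := h.card_K_add_one
  have hd := h.card_K_dvd
  have hle := h.card_quotient_le hsq
  have hs0 : s ≠ 0 := by
    rintro rfl
    obtain ⟨x, y, hxy⟩ := h.nonabelian
    have hx : x ∈ Subgroup.center P := by
      rw [← QuotientGroup.eq_one_iff]
      haveI : Subsingleton (P ⧸ Subgroup.center P) :=
        (Nat.card_eq_one_iff_unique.1 (by simpa using hs)).1
      exact Subsingleton.elim _ _
    exact hxy (Subgroup.mem_center_iff.1 hx y).symm
  rw [hn] at hK hd hle
  rw [hs, ← pow_mul] at hle
  rw [hs, show Nat.card K = 2 ^ n - 1 by omega] at hd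
  have hn0 : n ≠ 0 := by
    rintro rfl
    have := Nat.card_pos (α := K)
    simp at hK
    omega
  have hcop : Nat.Coprime (2 ^ n - 1) (2 ^ n) := by
    rw [Nat.coprime_comm]
    refine Nat.Coprime.pow_left n ((Nat.Prime.coprime_iff_not_dvd Nat.prime_two).2 ?_)
    intro h2
    have := (dvd_pow_self 2 hn0)
    have := Nat.two_pow_pos n
    omega
  have hd' : 2 ^ n - 1 ∣ 2 ^ s - 1 := hcop.dvd_of_dvd_mul_left hd
  have hg := Nat.pow_sub_one_gcd_pow_sub_one 2 n s
  rw [Nat.gcd_eq_left hd'] at hg
  have hgn : Nat.gcd n s = n := by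
    have h1 := Nat.two_pow_pos n
    have h2 := Nat.two_pow_pos (Nat.gcd n s)
    exact (Nat.pow_right_injective le_rfl (show 2 ^ n = 2 ^ Nat.gcd n s by omega)).symm
  obtain ⟨j, rfl⟩ : n ∣ s := hgn ▸ Nat.gcd_dvd_right n s
  have hj2 : n * j ≤ n * 2 := (Nat.pow_le_pow_iff_right (by norm_num)).1 hle
  have hj : j ≤ 2 := Nat.le_of_mul_le_mul_left hj2 (by omega)
  have hj0 : j ≠ 0 := fun e => hs0 (by rw [e, mul_zero])
  rw [(Subgroup.center P).card_eq_card_quotient_mul_card_subgroup, hs, hn, ← pow_add, ← pow_mul,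
    ← pow_mul]
  rcases (show j = 1 ∨ j = 2 by omega) with rfl | rfl
  · left; ring
  · right; ring

end Ctx

end CfsgLib.SuzukiTwo
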